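import Cfsg.Agent.Lib.KnownSimple.MultM.S62L.ValC0
import Cfsg.Agent.Lib.KnownSimple.MultC.ValH

/-!
# The relations between the relators
-/

set_option autoImplicit false

namespace Cfsg.Agent.Lib.KnownSimple.MultM.S62L

open Cfsg Cfsg.Spor Cfsg.Agent.Lib.Compute Cfsg.Agent.Lib.KnownSimple.PE Cfsg.Agent.Lib.KnownSimple.Leech
open Cfsg.Agent.Lib.KnownSimple Cfsg.Agent.Lib.KnownSimple.AutRigid Cfsg.Agent.Lib.KnownSimple.Pres
open Cfsg.Agent.Lib.KnownSimple.MultC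


theorem hEF : ∀ e, e < n * d → chkEdgeG 4294967296 mskM cKK C.τ d n RL 28 4 23 (lookP parT) (lookP genT) (lg 0 peL) tv e = true := by
  have h : allBelow fe 1200 = true :=
    allBelow_of_pad (m := 2) (s := 1024) (by norm_num) (fun c hc => by
    interval_cases c
    · exact ve0
    · exact ve1
  )
  intro e he
  exact (allBelow_iff _ _).1 h e he
set_option maxHeartbeats 0 in
set_option maxRecDepth 100000 in
theorem hLn : allBelow (fun q => Nat.blt (((lg [] RL q).length + 1) * 65536) 4294967296) 28 = true := by decide +kernel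
theorem hE : ∀ e, e < n * d → chkEdge C.τ d n RL 28 4 23 (lookP parT) (lookP genT) (lg 0 peL) (toV 4294967296 27 tv) e = true :=
  chkEdge_of_G (by norm_num) (good_of_mask (W := 32) (b := 16) (by norm_num) (by norm_num) (by norm_num) (by decide +kernel) (by decide +kernel))
    (fun l i hl hi => C.hlt l i hl hi) (fun q _ => words_lg hokR q) (len_of_chk hLn) hEF
set_option maxRecDepth 100000 in
/-- The relations. -/
def rowsF : List (ℕ × ℕ × List ℤ) := [(0,1,[.ofNat 0,.ofNat 2,.ofNat 0,.ofNat 0,.ofNat 0,.ofNat 0,.ofNat 0,.ofNat 0,.ofNat 0,.ofNat 0,.ofNat 0,.ofNat 0,.ofNat 0,.ofNat 0,.ofNat 0,.ofNat 0,.ofNat 0,.ofNat 0,.ofNat 0,.ofNat 0,.ofNat 0,.ofNat 0,.ofNat 0,.ofNat 0,.ofNat 0,.ofNat 0,.ofNat 0]),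
  (0,2,[.ofNat 0,.ofNat 0,.ofNat 2,.ofNat 0,.ofNat 0,.ofNat 0,.ofNat 0,.ofNat 0,.ofNat 0,.ofNat 0,.ofNat 0,.ofNat 0,.ofNat 0,.ofNat 0,.ofNat 0,.ofNat 0,.ofNat 0,.ofNat 0,.ofNat 0,.ofNat 0,.ofNat 0,.ofNat 0,.ofNat 0,.ofNat 0,.ofNat 0,.ofNat 0,.ofNat 0]),
  (0,3,[.ofNat 0,.ofNat 0,.ofNat 0,.ofNat 0,.ofNat 0,.ofNat 0,.ofNat 0,.ofNat 0,.ofNat 0,.ofNat 0,.ofNat 0,.ofNat 0,.ofNat 0,.ofNat 0,.ofNat 0,.ofNat 0,.ofNat 0,.ofNat 0,.ofNat 0,.ofNat 0,.ofNat 0,.ofNat 0,.ofNat 0,.ofNat 0,.ofNat 0,.ofNat 0,.ofNat 0]),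
  (0,9,[.ofNat 0,.ofNat 4,.ofNat 4,.ofNat 0,.ofNat 0,.ofNat 0,.ofNat 0,.ofNat 0,.ofNat 0,.ofNat 0,.ofNat 0,.ofNat 0,.ofNat 0,.ofNat 0,.ofNat 0,.ofNat 0,.ofNat 0,.ofNat 0,.ofNat 0,.ofNat 0,.ofNat 0,.ofNat 0,.ofNat 0,.ofNat 0,.ofNat 0,.ofNat 0,.ofNat 0]),
  (0,10,[.ofNat 0,.ofNat 3,.ofNat 0,.ofNat 0,.ofNat 0,.ofNat 0,.ofNat 0,.ofNat 0,.ofNat 0,.ofNat 0,.ofNat 0,.ofNat 0,.ofNat 0,.ofNat 0,.ofNat 0,.ofNat 0,.ofNat 0,.ofNat 0,.ofNat 0,.ofNat 0,.ofNat 0,.ofNat 0,.ofNat 0,.ofNat 0,.ofNat 0,.ofNat 0,.ofNat 0]),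
  (0,16,[.ofNat 4,.ofNat 4,.ofNat 5,.ofNat 0,.ofNat 0,.ofNat 0,.ofNat 0,.ofNat 0,.ofNat 0,.ofNat 0,.ofNat 0,.ofNat 0,.ofNat 0,.ofNat 0,.ofNat 0,.ofNat 0,.ofNat 0,.ofNat 0,.ofNat 0,.ofNat 0,.ofNat 0,.ofNat 0,.ofNat 0,.ofNat 0,.ofNat 0,.ofNat 0,.ofNat 0]),
  (0,17,[.ofNat 6,.ofNat 5,.ofNat 3,.ofNat 0,.ofNat 0,.ofNat 0,.ofNat 0,.ofNat 0,.ofNat 0,.ofNat 0,.ofNat 0,.ofNat 0,.ofNat 0,.ofNat 0,.ofNat 0,.ofNat 0,.ofNat 0,.ofNat 0,.ofNat 0,.ofNat 0,.ofNat 0,.ofNat 0,.ofNat 0,.ofNat 0,.ofNat 0,.ofNat 0,.ofNat 0]),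
  (0,18,[.ofNat 3,.ofNat 5,.ofNat 0,.ofNat 0,.ofNat 0,.ofNat 0,.ofNat 0,.ofNat 0,.ofNat 0,.ofNat 0,.ofNat 0,.ofNat 0,.ofNat 0,.ofNat 0,.ofNat 0,.ofNat 0,.ofNat 0,.ofNat 0,.ofNat 0,.ofNat 0,.ofNat 0,.ofNat 0,.ofNat 0,.ofNat 0,.ofNat 0,.ofNat 0,.ofNat 0]),
  (0,19,[.ofNat 3,.ofNat 4,.ofNat 3,.ofNat 0,.ofNat 0,.ofNat 0,.ofNat 0,.ofNat 0,.ofNat 0,.ofNat 0,.ofNat 0,.ofNat 0,.ofNat 0,.ofNat 0,.ofNat 0,.ofNat 0,.ofNat 0,.ofNat 0,.ofNat 0,.ofNat 0,.ofNat 0,.ofNat 0,.ofNat 0,.ofNat 0,.ofNat 0,.ofNat 0,.ofNat 0]),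
  (0,20,[.ofNat 3,.ofNat 6,.ofNat 4,.ofNat 0,.ofNat 0,.ofNat 0,.ofNat 0,.ofNat 0,.ofNat 0,.ofNat 0,.ofNat 0,.ofNat 0,.ofNat 0,.ofNat 0,.ofNat 0,.ofNat 0,.ofNat 0,.ofNat 0,.ofNat 0,.ofNat 0,.ofNat 0,.ofNat 0,.ofNat 0,.ofNat 0,.ofNat 0,.ofNat 0,.ofNat 0]),
  (0,23,[.negSucc 0,.ofNat 0,.ofNat 0,.ofNat 0,.ofNat 0,.ofNat 0,.ofNat 0,.ofNat 0,.ofNat 0,.ofNat 0,.ofNat 0,.ofNat 0,.ofNat 0,.ofNat 0,.ofNat 0,.ofNat 0,.ofNat 0,.ofNat 0,.ofNat 0,.ofNat 0,.ofNat 0,.ofNat 0,.ofNat 0,.ofNat 0,.ofNat 0,.ofNat 0,.ofNat 0]),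
  (0,24,[.ofNat 0,.negSucc 0,.ofNat 0,.ofNat 0,.ofNat 0,.ofNat 0,.ofNat 0,.ofNat 0,.ofNat 0,.ofNat 0,.ofNat 0,.ofNat 0,.ofNat 0,.ofNat 0,.ofNat 0,.ofNat 0,.ofNat 0,.ofNat 0,.ofNat 0,.ofNat 0,.ofNat 0,.ofNat 0,.ofNat 0,.ofNat 0,.ofNat 0,.ofNat 0,.ofNat 0]),
  (0,25,[.ofNat 0,.ofNat 0,.negSucc 0,.ofNat 0,.ofNat 0,.ofNat 0,.ofNat 0,.ofNat 0,.ofNat 0,.ofNat 0,.ofNat 0,.ofNat 0,.ofNat 0,.ofNat 0,.ofNat 0,.ofNat 0,.ofNat 0,.ofNat 0,.ofNat 0,.ofNat 0,.ofNat 0,.ofNat 0,.ofNat 0,.ofNat 0,.ofNat 0,.ofNat 0,.ofNat 0]),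
  (1,27,[.ofNat 2,.negSucc 1,.negSucc 2,.ofNat 0,.negSucc 4,.negSucc 0,.ofNat 2,.ofNat 0,.negSucc 1,.negSucc 0,.negSucc 0,.ofNat 0,.ofNat 0,.negSucc 1,.ofNat 0,.ofNat 1,.ofNat 0,.ofNat 0,.ofNat 0,.ofNat 2,.ofNat 0,.ofNat 1,.ofNat 0,.ofNat 0,.ofNat 0,.ofNat 0,.ofNat 0]),
  (2,27,[.ofNat 3,.ofNat 4,.ofNat 3,.ofNat 0,.ofNat 2,.negSucc 0,.ofNat 0,.ofNat 0,.ofNat 1,.ofNat 0,.ofNat 0,.ofNat 0,.negSucc 0,.ofNat 0,.ofNat 0,.ofNat 1,.ofNat 0,.ofNat 0,.ofNat 0,.ofNat 0,.ofNat 0,.ofNat 0,.ofNat 0,.ofNat 0,.ofNat 0,.negSucc 0,.ofNat 0]),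
  (10,23,[.ofNat 0,.ofNat 0,.ofNat 0,.ofNat 0,.ofNat 0,.ofNat 2,.ofNat 0,.ofNat 0,.ofNat 0,.ofNat 0,.ofNat 1,.ofNat 0,.ofNat 0,.ofNat 0,.ofNat 0,.ofNat 0,.ofNat 0,.ofNat 0,.ofNat 0,.negSucc 0,.ofNat 0,.ofNat 0,.ofNat 0,.ofNat 0,.ofNat 0,.ofNat 0,.ofNat 0]),
  (14,26,[.ofNat 0,.ofNat 0,.ofNat 0,.ofNat 0,.ofNat 0,.ofNat 0,.ofNat 0,.ofNat 1,.ofNat 2,.ofNat 0,.ofNat 0,.ofNat 0,.ofNat 0,.ofNat 0,.ofNat 0,.ofNat 0,.ofNat 0,.ofNat 0,.negSucc 0,.ofNat 0,.ofNat 0,.ofNat 0,.ofNat 0,.ofNat 0,.ofNat 0,.ofNat 0,.ofNat 0]),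
  (16,5,[.negSucc 2,.negSucc 1,.negSucc 2,.negSucc 0,.ofNat 3,.ofNat 3,.ofNat 0,.ofNat 1,.ofNat 0,.ofNat 0,.ofNat 0,.ofNat 0,.ofNat 0,.ofNat 0,.ofNat 1,.negSucc 0,.ofNat 0,.ofNat 0,.ofNat 0,.ofNat 0,.ofNat 0,.ofNat 0,.negSucc 0,.ofNat 0,.ofNat 0,.ofNat 1,.ofNat 0]),
  (25,26,[.ofNat 0,.ofNat 0,.ofNat 0,.ofNat 0,.ofNat 1,.ofNat 0,.ofNat 0,.ofNat 1,.ofNat 0,.ofNat 0,.ofNat 0,.negSucc 0,.ofNat 0,.ofNat 0,.ofNat 0,.ofNat 0,.ofNat 0,.ofNat 0,.ofNat 0,.ofNat 0,.ofNat 0,.ofNat 0,.ofNat 0,.ofNat 0,.ofNat 0,.ofNat 0,.ofNat 0]),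
  (26,0,[.ofNat 0,.ofNat 0,.ofNat 0,.ofNat 0,.ofNat 0,.ofNat 0,.ofNat 0,.ofNat 0,.ofNat 0,.ofNat 0,.ofNat 0,.ofNat 0,.ofNat 0,.ofNat 0,.ofNat 0,.ofNat 0,.ofNat 0,.ofNat 0,.ofNat 0,.ofNat 0,.ofNat 0,.ofNat 0,.ofNat 0,.ofNat 0,.ofNat 0,.ofNat 0,.ofNat 0]),
  (26,21,[.ofNat 0,.ofNat 0,.negSucc 0,.ofNat 0,.ofNat 0,.ofNat 1,.ofNat 0,.ofNat 0,.ofNat 0,.ofNat 0,.ofNat 0,.ofNat 0,.ofNat 1,.ofNat 0,.ofNat 1,.ofNat 0,.ofNat 0,.ofNat 1,.negSucc 0,.ofNat 0,.ofNat 0,.ofNat 0,.ofNat 0,.ofNat 0,.ofNat 0,.ofNat 0,.ofNat 0]),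
  (34,14,[.ofNat 0,.ofNat 0,.ofNat 0,.ofNat 0,.ofNat 0,.ofNat 0,.negSucc 1,.ofNat 2,.ofNat 0,.ofNat 0,.ofNat 0,.ofNat 0,.ofNat 0,.ofNat 0,.ofNat 0,.ofNat 0,.ofNat 0,.ofNat 1,.ofNat 0,.ofNat 0,.ofNat 0,.ofNat 0,.ofNat 0,.ofNat 0,.ofNat 0,.ofNat 0,.ofNat 0]),
  (111,25,[.ofNat 0,.ofNat 0,.ofNat 0,.ofNat 0,.ofNat 2,.ofNat 0,.ofNat 1,.negSucc 0,.ofNat 0,.ofNat 0,.negSucc 0,.ofNat 0,.ofNat 0,.ofNat 0,.ofNat 0,.ofNat 0,.ofNat 1,.ofNat 0,.ofNat 0,.ofNat 0,.ofNat 0,.ofNat 0,.ofNat 0,.ofNat 0,.ofNat 0,.ofNat 0,.ofNat 0]),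
  (119,11,[.ofNat 0,.ofNat 0,.ofNat 0,.ofNat 0,.ofNat 0,.negSucc 0,.negSucc 3,.ofNat 0,.ofNat 3,.ofNat 0,.ofNat 0,.ofNat 0,.ofNat 0,.ofNat 2,.ofNat 0,.negSucc 0,.ofNat 0,.ofNat 0,.ofNat 0,.ofNat 0,.ofNat 0,.ofNat 0,.ofNat 0,.ofNat 0,.ofNat 0,.ofNat 0,.ofNat 0]),
  (124,25,[.ofNat 0,.ofNat 0,.ofNat 0,.ofNat 0,.ofNat 0,.ofNat 0,.ofNat 0,.ofNat 1,.ofNat 0,.ofNat 0,.ofNat 0,.ofNat 0,.ofNat 0,.ofNat 0,.ofNat 0,.ofNat 0,.negSucc 0,.ofNat 0,.ofNat 0,.ofNat 0,.ofNat 0,.ofNat 0,.ofNat 0,.ofNat 0,.ofNat 0,.ofNat 0,.ofNat 0]),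
  (136,23,[.ofNat 1,.ofNat 1,.ofNat 0,.negSucc 0,.negSucc 1,.ofNat 6,.ofNat 5,.ofNat 0,.ofNat 0,.ofNat 2,.ofNat 0,.ofNat 0,.ofNat 1,.negSucc 0,.ofNat 0,.negSucc 1,.ofNat 0,.ofNat 0,.ofNat 0,.ofNat 0,.negSucc 0,.negSucc 0,.negSucc 0,.ofNat 0,.ofNat 0,.ofNat 0,.ofNat 1]),
  (216,23,[.ofNat 0,.ofNat 0,.ofNat 0,.ofNat 0,.ofNat 1,.ofNat 2,.ofNat 0,.ofNat 0,.ofNat 0,.negSucc 0,.ofNat 0,.ofNat 0,.ofNat 0,.ofNat 0,.ofNat 0,.ofNat 0,.ofNat 0,.ofNat 0,.ofNat 0,.ofNat 0,.ofNat 0,.ofNat 0,.ofNat 0,.ofNat 0,.ofNat 0,.ofNat 0,.ofNat 0])]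
set_option maxRecDepth 100000 in
/-- The relations, packed. -/
def rowsP : List (ℕ × ℕ × ℕ × ℕ) := [(0,1,8589934592,0),
  (0,2,36893488147419103232,0),
  (0,3,0,0),
  (0,9,73786976312018075648,0),
  (0,10,12884901888,0),
  (0,16,92233720385727627268,0),
  (0,17,55340232242603491334,0),
  (0,18,21474836483,0),
  (0,19,55340232238308524035,0),
  (0,20,73786976320608010243,0),
  (0,23,0,1),
  (0,24,0,4294967296),
  (0,25,0,18446744073709551616),
  (1,27,19595533242629369749915953576873626812847279956697338354255156421923725150295359132489054640984686407834325339112271984203093987698714068021677521521048901445408939050910110128504622409113330074492338178,338460656020607282663380637714914759428561430996748376800539749934092432445467355300586837354480999049869504268152325665718272),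
  (2,27,3121748550315992231381597229793166305748598142664971150859156959625487530909002936315729674048500659067680881670806105336414415352743300280877059,6668014432879854274079851790721257797144758322315908160396257811764037237817632071521432200871554290742929910593433240445888841056125561474842568331370930189708962659253285023909746234205218271912238150677400934451630465669400287575086727168),
  (10,23,2135987035920910082395021706169552114602704522359575773221703413658627095446073116062273952022528,1062275985633534197379176413104937254659186235454063846398888276400807119721704485478325004530458571337778658972493002030693158675305414478819039957533174703887662541670786438063456256),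
  (14,26,231584178501592337514292609812042830793559600004918272501455740496929869529088,247330401473104534060502521019647190035131349101211839914063056092897225106531867170316401061243044989597671426016139339351365034306751209967546155101893167916606772148699136),
  (16,5,6668014432879854274079851790721257797144758322315908160396257811764037237817632071521432200871554290742930637432157536052779350977927253084897709693691517364155439069713195224711138350985780014831198779734633893514311325294955358259505004544,84162174424773976115855838126082058648805436845170781751972494449102836217303609146050046177671208385937476099841516454559170072962566233548864801950550399702347070709214940502188026828272774021624550136341331971),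
  (25,26,26959946667150639794667015087359913040558082886003947088535378460672,9173994463960286046443283581208347763186259956673124494950355357547691504353939232280074212440502746218496),
  (26,0,0,0),
  (26,21,57586096570152913699974892899107406517827730004853258717774070342997441433382506414170290720580907706300333872839505691563963912585422027565292804172434982897188864,247330401473104534060502521019647190035131349101211839914063056092897225106531867170316401061243044989597671426016139339351365034306751209967546155101893186363350845858250752),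
  (34,14,57586096570152913699974892898380567793532123114264532903689671329431521032595044740083720782129856891412321957388656791607239844771674310308154075460036304566222848,12554203470773361527671578846415332832204710888928069025792),
  (111,25,13407807929942597099574024998205846127479365820592393377723561443721764030073546976801874298166909704791767244867250567207910932355289599051092976577019904,2135987035920910082395021706196512061269855162151319785034061238495856870203181122504065697185792),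
  (119,11,338460656020607282663380637712778772392143197678059360541452131766766478068017472786056685699131147534085073308835698840698880,3121748550315992231381597229793166305748598142664971150859156959625371738819765620120331211470434979384519605182017657245945101384085797376884736),
  (124,25,26959946667150639794667015087019630673637144422540572481103610249216,13407807929942597099574024998205846127479365820592393377723561443721764030073546976801874298166903427690031858186486050853753882811946569946433649006084096),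
  (136,23,28638903918474961204418783933674838490721739172170652529441449702311064005352904159345284265824628375429359509218999720074396860757073416102451222436043791899552975446239490001579356037690143049565633140568231982546341474061387331659468959061278457857,84162174444369509363047648491495655473053166868960000207353186801288180098898399121447073154895336477625998038355419573775363295662536166605418440723807277199390829447877735273142236762827414314455681212428058624),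
  (216,23,2923003275002088203328308128895940646743633297408,497323236409786642155382248146820840100456150797347717440463976893159497012533375533056)]
set_option maxHeartbeats 0 in
set_option maxRecDepth 100000 in
theorem hFm : (rowsP.map fun x => (x.1, x.2.1, decV 4294967296 27 x.2.2.1 x.2.2.2)) = rowsF := by decide +kernel
set_option maxHeartbeats 0 in
set_option maxRecDepth 100000 in
theorem hFb : (rowsP.all fun x => bcond (maskOK mskM cKK x.2.2.1) (maskOK mskM cKK x.2.2.2) false) = true := by decide +kernel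
set_option maxHeartbeats 0 in
set_option maxRecDepth 100000 in
theorem hFc : (rowsP.all (chkRowG τ d n RL 28 (n * d) 959 tv)) = true := by decide +kernel
theorem hF : ∀ x ∈ rowsF, chkRow C.τ d n RL 28 (n * d) 959 (toV 4294967296 27 tv) x = true :=
  chkRow_of_G (by norm_num) (good_of_mask (W := 32) (b := 16) (by norm_num) (by norm_num) (by norm_num) (by decide +kernel) (by decide +kernel))
    (fun l i hl hi => C.hlt l i hl hi) (fun q _ => words_lg hokR q) (len_of_chk hLn) hEF rowsP rowsF hFm hFb hFc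
set_option maxRecDepth 100000 in
/-- A combination. -/
def cb0 : List (ℕ × ℤ) := [(19,.negSucc 0)]
set_option maxHeartbeats 0 in
set_option maxRecDepth 100000 in
theorem hcb0 : chkComb 4 23 rowsF 8 0 (0) cb0 = true := by decide +kernel
set_option maxRecDepth 100000 in
/-- A combination. -/
def cb1 : List (ℕ × ℤ) := [(0,.negSucc 0),(11,.negSucc 1)]
set_option maxHeartbeats 0 in
set_option maxRecDepth 100000 in
theorem hcb1 : chkComb 4 23 rowsF 8 1 (0) cb1 = true := by decide +kernel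
set_option maxRecDepth 100000 in
/-- A combination. -/
def cb2 : List (ℕ × ℤ) := [(1,.negSucc 0),(12,.negSucc 1)]
set_option maxHeartbeats 0 in
set_option maxRecDepth 100000 in
theorem hcb2 : chkComb 4 23 rowsF 8 2 (0) cb2 = true := by decide +kernel
set_option maxRecDepth 100000 in
/-- A combination. -/
def cb3 : List (ℕ × ℤ) := [(2,.negSucc 0)]
set_option maxHeartbeats 0 in
set_option maxRecDepth 100000 in
theorem hcb3 : chkComb 4 23 rowsF 8 3 (0) cb3 = true := by decide +kernel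
set_option maxRecDepth 100000 in
/-- A combination. -/
def cb4 : List (ℕ × ℤ) := [(0,.negSucc 0),(1,.negSucc 1),(3,.ofNat 2),(6,.negSucc 1),(10,.negSucc 15),(12,.ofNat 4),(13,.negSucc 1),(15,.negSucc 3),(19,.ofNat 8),(22,.negSucc 1),(23,.negSucc 0),(24,.negSucc 1),(26,.ofNat 2)]
set_option maxHeartbeats 0 in
set_option maxRecDepth 100000 in
theorem hcb4 : chkComb 4 23 rowsF 8 4 (0) cb4 = true := by decide +kernel
set_option maxRecDepth 100000 in
/-- A combination. -/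
def cb5 : List (ℕ × ℤ) := [(0,.negSucc 1),(11,.negSucc 3),(19,.negSucc 0),(26,.negSucc 0)]
set_option maxHeartbeats 0 in
set_option maxRecDepth 100000 in
theorem hcb5 : chkComb 4 23 rowsF 8 5 (0) cb5 = true := by decide +kernel
set_option maxRecDepth 100000 in
/-- A combination. -/
def cb6 : List (ℕ × ℤ) := [(1,.negSucc 0),(12,.negSucc 1),(19,.negSucc 1),(22,.negSucc 0),(24,.negSucc 0)]
set_option maxHeartbeats 0 in
set_option maxRecDepth 100000 in
theorem hcb6 : chkComb 4 23 rowsF 8 6 (0) cb6 = true := by decide +kernel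
set_option maxRecDepth 100000 in
/-- A combination. -/
def cb7 : List (ℕ × ℤ) := [(2,.negSucc 0),(18,.negSucc 0),(19,.negSucc 0)]
set_option maxHeartbeats 0 in
set_option maxRecDepth 100000 in
theorem hcb7 : chkComb 4 23 rowsF 8 7 (0) cb7 = true := by decide +kernel
set_option maxRecDepth 100000 in
/-- A combination. -/
def cb8 : List (ℕ × ℤ) := [(1,.negSucc 0),(2,.negSucc 1),(3,.ofNat 4),(4,.ofNat 1),(6,.negSucc 4),(10,.negSucc 42),(12,.ofNat 10),(13,.negSucc 4),(14,.negSucc 0),(15,.negSucc 9),(19,.ofNat 18),(20,.ofNat 1),(21,.negSucc 0),(22,.negSucc 4),(23,.negSucc 2),(24,.negSucc 4),(26,.ofNat 5)]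
set_option maxHeartbeats 0 in
set_option maxRecDepth 100000 in
theorem hcb8 : chkComb 4 23 rowsF 8 8 (-1) cb8 = true := by decide +kernel
set_option maxRecDepth 100000 in
/-- A combination. -/
def cb9 : List (ℕ × ℤ) := [(3,.negSucc 0),(11,.negSucc 3),(12,.negSucc 3)]
set_option maxHeartbeats 0 in
set_option maxRecDepth 100000 in
theorem hcb9 : chkComb 4 23 rowsF 8 9 (0) cb9 = true := by decide +kernel
set_option maxRecDepth 100000 in
/-- A combination. -/
def cb10 : List (ℕ × ℤ) := [(4,.negSucc 0),(11,.negSucc 2)]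
set_option maxHeartbeats 0 in
set_option maxRecDepth 100000 in
theorem hcb10 : chkComb 4 23 rowsF 8 10 (0) cb10 = true := by decide +kernel
set_option maxRecDepth 100000 in
/-- A combination. -/
def cb11 : List (ℕ × ℤ) := [(0,.negSucc 0),(1,.negSucc 0),(3,.ofNat 2),(6,.negSucc 2),(10,.negSucc 23),(11,.negSucc 2),(12,.ofNat 6),(13,.negSucc 2),(15,.negSucc 5),(19,.ofNat 12),(22,.negSucc 2),(23,.negSucc 1),(24,.negSucc 2),(26,.ofNat 3)]
set_option maxHeartbeats 0 in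
set_option maxRecDepth 100000 in
theorem hcb11 : chkComb 4 23 rowsF 8 11 (0) cb11 = true := by decide +kernel
set_option maxRecDepth 100000 in
/-- A combination. -/
def cb12 : List (ℕ × ℤ) := [(2,.negSucc 0),(24,.negSucc 0)]
set_option maxHeartbeats 0 in
set_option maxRecDepth 100000 in
theorem hcb12 : chkComb 4 23 rowsF 8 12 (0) cb12 = true := by decide +kernel
set_option maxRecDepth 100000 in
/-- A combination. -/
def cb13 : List (ℕ × ℤ) := [(0,.negSucc 1),(1,.negSucc 5),(2,.ofNat 1),(3,.ofNat 4),(6,.negSucc 3),(10,.negSucc 31),(12,.ofNat 4),(13,.negSucc 3),(15,.negSucc 7),(16,.negSucc 0),(19,.ofNat 16),(21,.ofNat 1),(22,.negSucc 3),(23,.negSucc 1),(24,.negSucc 3),(26,.ofNat 4)]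
set_option maxHeartbeats 0 in
set_option maxRecDepth 100000 in
theorem hcb13 : chkComb 4 23 rowsF 8 13 (0) cb13 = true := by decide +kernel
set_option maxRecDepth 100000 in
/-- A combination. -/
def cb14 : List (ℕ × ℤ) := [(0,.negSucc 1),(1,.negSucc 3),(2,.negSucc 0),(3,.ofNat 4),(6,.negSucc 3),(10,.negSucc 31),(12,.ofNat 8),(13,.negSucc 3),(15,.negSucc 7),(16,.negSucc 0),(19,.ofNat 16),(22,.negSucc 3),(23,.negSucc 1),(24,.negSucc 3),(26,.ofNat 4)]
set_option maxHeartbeats 0 in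
set_option maxRecDepth 100000 in
theorem hcb14 : chkComb 4 23 rowsF 8 14 (0) cb14 = true := by decide +kernel
set_option maxRecDepth 100000 in
/-- A combination. -/
def cb15 : List (ℕ × ℤ) := [(0,.negSucc 1),(1,.negSucc 0),(11,.negSucc 3),(12,.negSucc 1),(15,.negSucc 0),(19,.negSucc 1),(22,.negSucc 0),(24,.negSucc 0)]
set_option maxHeartbeats 0 in
set_option maxRecDepth 100000 in
theorem hcb15 : chkComb 4 23 rowsF 8 15 (0) cb15 = true := by decide +kernel
set_option maxRecDepth 100000 in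
/-- A combination. -/
def cb16 : List (ℕ × ℤ) := [(5,.negSucc 0),(10,.negSucc 3),(11,.negSucc 3),(12,.negSucc 4)]
set_option maxHeartbeats 0 in
set_option maxRecDepth 100000 in
theorem hcb16 : chkComb 4 23 rowsF 8 16 (0) cb16 = true := by decide +kernel
set_option maxRecDepth 100000 in
/-- A combination. -/
def cb17 : List (ℕ × ℤ) := [(6,.negSucc 0),(10,.negSucc 5),(11,.negSucc 4),(12,.negSucc 2)]
set_option maxHeartbeats 0 in
set_option maxRecDepth 100000 in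
theorem hcb17 : chkComb 4 23 rowsF 8 17 (0) cb17 = true := by decide +kernel
set_option maxRecDepth 100000 in
/-- A combination. -/
def cb18 : List (ℕ × ℤ) := [(7,.negSucc 0),(10,.negSucc 2),(11,.negSucc 4)]
set_option maxHeartbeats 0 in
set_option maxRecDepth 100000 in
theorem hcb18 : chkComb 4 23 rowsF 8 18 (0) cb18 = true := by decide +kernel
set_option maxRecDepth 100000 in
/-- A combination. -/
def cb19 : List (ℕ × ℤ) := [(8,.negSucc 0),(10,.negSucc 2),(11,.negSucc 3),(12,.negSucc 2)]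
set_option maxHeartbeats 0 in
set_option maxRecDepth 100000 in
theorem hcb19 : chkComb 4 23 rowsF 8 19 (0) cb19 = true := by decide +kernel
set_option maxRecDepth 100000 in
/-- A combination. -/
def cb20 : List (ℕ × ℤ) := [(9,.negSucc 0),(10,.negSucc 2),(11,.negSucc 5),(12,.negSucc 3)]
set_option maxHeartbeats 0 in
set_option maxRecDepth 100000 in
theorem hcb20 : chkComb 4 23 rowsF 8 20 (0) cb20 = true := by decide +kernel
set_option maxRecDepth 100000 in
/-- A combination. -/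
def cb21 : List (ℕ × ℤ) := [(0,.negSucc 0),(1,.negSucc 1),(2,.ofNat 2),(4,.negSucc 0),(11,.negSucc 4),(12,.negSucc 2),(20,.negSucc 0),(21,.ofNat 1)]
set_option maxHeartbeats 0 in
set_option maxRecDepth 100000 in
theorem hcb21 : chkComb 4 23 rowsF 8 21 (1) cb21 = true := by decide +kernel
set_option maxRecDepth 100000 in
/-- A combination. -/
def cb22 : List (ℕ × ℤ) := [(0,.ofNat 7),(1,.ofNat 2),(2,.ofNat 1),(3,.ofNat 1),(4,.negSucc 1),(5,.negSucc 0),(6,.negSucc 3),(10,.negSucc 29),(11,.negSucc 2),(12,.ofNat 4),(13,.negSucc 2),(15,.negSucc 5),(17,.negSucc 0),(19,.ofNat 10),(20,.negSucc 0),(21,.ofNat 1),(22,.negSucc 2),(23,.negSucc 1),(24,.negSucc 2),(25,.ofNat 1),(26,.ofNat 6)]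
set_option maxHeartbeats 0 in
set_option maxRecDepth 100000 in
theorem hcb22 : chkComb 4 23 rowsF 8 22 (0) cb22 = true := by decide +kernel

theorem hcert : ∀ q, q < 23 → ∃ (a : ℤ) (L : List (ℕ × ℤ)), chkComb 4 23 rowsF 8 q a L = true ∧ (q = 8 → a = 1 - ((2 : ℕ) : ℤ)) := by
  intro q hq
  interval_cases q
  · exact ⟨0, cb0, hcb0, by norm_num⟩
  · exact ⟨0, cb1, hcb1, by norm_num⟩
  · exact ⟨0, cb2, hcb2, by norm_num⟩
  · exact ⟨0, cb3, hcb3, by norm_num⟩
  · exact ⟨0, cb4, hcb4, by norm_num⟩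
  · exact ⟨0, cb5, hcb5, by norm_num⟩
  · exact ⟨0, cb6, hcb6, by norm_num⟩
  · exact ⟨0, cb7, hcb7, by norm_num⟩
  · exact ⟨-1, cb8, hcb8, by norm_num⟩
  · exact ⟨0, cb9, hcb9, by norm_num⟩
  · exact ⟨0, cb10, hcb10, by norm_num⟩
  · exact ⟨0, cb11, hcb11, by norm_num⟩
  · exact ⟨0, cb12, hcb12, by norm_num⟩
  · exact ⟨0, cb13, hcb13, by norm_num⟩
  · exact ⟨0, cb14, hcb14, by norm_num⟩
  · exact ⟨0, cb15, hcb15, by norm_num⟩
  · exact ⟨0, cb16, hcb16, by norm_num⟩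
  · exact ⟨0, cb17, hcb17, by norm_num⟩
  · exact ⟨0, cb18, hcb18, by norm_num⟩
  · exact ⟨0, cb19, hcb19, by norm_num⟩
  · exact ⟨0, cb20, hcb20, by norm_num⟩
  · exact ⟨1, cb21, hcb21, by norm_num⟩
  · exact ⟨0, cb22, hcb22, by norm_num⟩


end Cfsg.Agent.Lib.KnownSimple.MultM.S62L
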